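import Cfsg.Agent.H620.RIM.Nb
import Cfsg.Agent.KFacts.J2.Facts
import Cfsg.Agent.J2Type.ThreeF
import Cfsg.Agent.J2Type.FiveFus
import Cfsg.Agent.H417.CodCentral
import Cfsg.Agent.S2040

/-!
# S4816: the row `J2`, `p = 7` (helper315)

Eight classes of elements of odd order: `1`, two of order 3, three of order 5, one each of orders 7 and 15.
-/

set_option autoImplicit false

namespace Cfsg.Agent.H315.RIM.J2Seven

open Subgroup Cfsg Cfsg.Agent.H665.RIM Cfsg.Agent.H620.RIM
open Cfsg.Agent.J2Type.Base Cfsg.Agent.J2Type.HStr Cfsg.Agent.J2Type.CentU Cfsg.Agent.J2Type.SylowFive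

universe u

variable {G : Type*} [Group G] [Finite G] {z u : G}

/-- a good element of order 5 is not conjugate to its square -/
theorem not_conj_sq (hG : Nat.card G = 604800) {w : G} (hw : Good w) (h300 : ∀ P : Sylow 5 G,
    Nat.card (normalizer ((P : Subgroup G) : Set G)) = 300) : ¬ IsConj w (w ^ 2) := by
  intro hcon
  have : Fact (Nat.Prime 5) := ⟨by norm_num⟩
  obtain ⟨P⟩ : Nonempty (Sylow 5 G) := inferInstance
  obtain ⟨a, ha⟩ := exists_conj_mem_sylow P (y := w) (n := 1) (by rw [hw.1]; norm_num)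
  have hx := hw.conj a
  have hcx : IsConj (a * w * a⁻¹) ((a * w * a⁻¹) ^ 2) := by
    rw [conj_pow]
    have h1 : IsConj w (a * w * a⁻¹) := isConj_iff.2 ⟨a, rfl⟩
    have h2 : IsConj (w ^ 2) (a * w ^ 2 * a⁻¹) := isConj_iff.2 ⟨a, rfl⟩
    exact h1.symm.trans (hcon.trans h2)
  generalize a * w * a⁻¹ = x at ha hx hcx
  have h50 := (hx.key hG ha).2
  have hO := card_O hG ha
  rw [h50, h300 P] at hO
  have h6 : Nat.card (O P x) = 6 := by omega
  have h4 : 4 ∣ Nat.card (O P x) := by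
    refine four_dvd_card (T := O P x) (fun y hy => ?_) (fun y hy => ⟨(P : Subgroup G).pow_mem hy.1 2, ?_⟩)
    · rw [← orderOf_eq_of_isConj hy.2]
      exact hx.1
    · exact hcx.trans (hy.2.pow 2)
  rw [h6] at h4
  norm_num at h4

/-- eight classes of odd order -/
theorem exists_eight (h : Fus z u) : ∃ F : Finset (ConjClasses G), F.card = 8 ∧
    ∀ C ∈ F, ∃ g : G, ConjClasses.mk g = C ∧ (orderOf g).Coprime 2 := by
  have : Fact (Nat.Prime 5) := ⟨by norm_num⟩
  have : Fact (Nat.Prime 3) := ⟨by norm_num⟩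
  have : Fact (Nat.Prime 7) := ⟨by norm_num⟩
  have hG := Cfsg.Agent.J2Type.Order.card_of_fus h
  obtain ⟨f, U, V, H0, F⟩ := Cfsg.Agent.J2Type.CentU.main h
  have h60 : Nat.card H0 = 60 := by
    have h1 := Cfsg.Agent.J2Type.Order.card_centralizer_u h
    rw [F.str.card] at h1
    omega
  obtain ⟨w', hw'⟩ := exists_prime_orderOf_dvd_card' (G := H0) 5 (by rw [h60]; norm_num)
  obtain ⟨w, hw⟩ := exists_prime_orderOf_dvd_card' (G := centralizer ({z} : Set G)) 5
    (by rw [h.cardC]; norm_num)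
  have hw'5 : orderOf (w' : G) = 5 := by rw [orderOf_coe]; exact hw'
  have hw5 : orderOf (w : G) = 5 := by rw [orderOf_coe]; exact hw
  have hwz : (w : G) * z = z * w := mem_centralizer_singleton_iff.mp w.2
  have hgood := Cfsg.Agent.J2Type.Cent5.good_of_mem h F h60 w'.2 hw'5
  have hn4 := Cfsg.Agent.J2Type.FiveFus.not_four_dvd h hw5 hwz
  have hsq := not_conj_sq hG hgood fun P => (Cfsg.Agent.J2Type.FiveFus.sylow_five h P).2.2.1
  have hc300 : Nat.card (centralizer ({(w' : G)} : Set G)) = 300 := by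
    obtain ⟨P⟩ : Nonempty (Sylow 5 G) := inferInstance
    obtain ⟨a, ha⟩ := exists_conj_mem_sylow P (y := (w' : G)) (n := 1) (by rw [hw'5]; norm_num)
    have h1 := (hgood.conj a).card_centralizer hG ha
    have h2 := Cfsg.Agent.J2Type.Cent5.card_centralizer_of_isConj (isConj_iff.2 ⟨a, rfl⟩ : IsConj (w' : G) (a * w' * a⁻¹))
    rw [h2]
    exact h1
  obtain ⟨a, b, ha, hb, hca, hcb, -, -⟩ := Cfsg.Agent.J2Type.ThreeF.main h
  have hab : ¬ IsConj a b := fun hcon => by
    have h1 := Cfsg.Agent.J2Type.Cent5.card_centralizer_of_isConj hcon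
    rw [hca, hcb] at h1
    norm_num at h1
  obtain ⟨y, hy⟩ := exists_prime_orderOf_dvd_card' (G := G) 7 (by rw [hG]; norm_num)
  obtain ⟨c, hc⟩ := exists_prime_orderOf_dvd_card' (G := centralizer ({(w' : G)} : Set G)) 3
    (by rw [hc300]; norm_num)
  have hc3 : orderOf (c : G) = 3 := by rw [orderOf_coe]; exact hc
  have hcw : Commute (c : G) w' := mem_centralizer_singleton_iff.1 c.2
  have h15 : orderOf ((c : G) * w') = 15 := by
    rw [hcw.orderOf_mul_eq_mul_orderOf_of_coprime (by rw [hc3, hw'5]; norm_num), hc3, hw'5]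
  have hw2 : orderOf ((w' : G) ^ 2) = 5 := by
    rw [Nat.Coprime.orderOf_pow (by rw [hw'5]; norm_num), hw'5]
  have hne : ∀ {g k : G}, orderOf g ≠ orderOf k → ¬ IsConj g k := fun hgk hcon =>
    hgk (orderOf_eq_of_isConj hcon)
  have h53 : ¬ IsConj (w' : G) w := fun hcon => by
    have h1 := Cfsg.Agent.J2Type.Cent5.card_centralizer_of_isConj hcon
    rw [← h1, hc300] at hn4
    norm_num at hn4
  have h54 : ¬ IsConj ((w' : G) ^ 2) w := fun hcon => by
    have h1 := Cfsg.Agent.J2Type.Cent5.card_centralizer_of_isConj hcon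
    rw [← h1, centralizer_sq hw'5, hc300] at hn4
    norm_num at hn4
  obtain ⟨F', hF', hF⟩ := exists_finset (fun g : G => (orderOf g).Coprime 2)
    [1, a, b, (w' : G), (w' : G) ^ 2, (w : G), y, (c : G) * w'] (by
      simp only [List.pairwise_cons, List.mem_cons, List.not_mem_nil, or_false, forall_eq_or_imp, forall_eq,
        IsEmpty.forall_iff, implies_true, List.Pairwise.nil, and_true]
      refine ⟨⟨?_, ?_, ?_, ?_, ?_, ?_, ?_⟩, ⟨hab, ?_, ?_, ?_, ?_, ?_⟩, ⟨?_, ?_, ?_, ?_, ?_⟩, ⟨hsq, h53, ?_, ?_⟩,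
        ⟨h54, ?_, ?_⟩, ⟨?_, ?_⟩, ?_⟩ <;> refine hne ?_ <;>
        simp only [orderOf_one, ha, hb, hw'5, hw2, hw5, hy, h15] <;> norm_num) (by
      simp only [List.mem_cons, List.not_mem_nil, or_false, forall_eq_or_imp, forall_eq, orderOf_one, ha, hb,
        hw'5, hw2, hw5, hy, h15]
      norm_num)
  exact ⟨F', hF', hF⟩

/-- **`J2`, `p = 7`, kernel of order 2** -/
theorem nb {S : Type u} [Group S] [Finite S] (h : Spor.IsoJ2 S) : NB 7 2 S := by
  have : Fact (Nat.Prime 7) := ⟨by norm_num⟩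
  obtain ⟨t, v, Q, v', ρ, D⟩ := Cfsg.Agent.KFacts.J2.Facts.exists_dat_of h
  have hG := Cfsg.Agent.J2Type.Order.card_of_fus D.F
  obtain ⟨F, hF8, hF⟩ := exists_eight D.F
  obtain ⟨y, hy⟩ := exists_prime_orderOf_dvd_card' (G := S) 7 (by rw [hG]; norm_num)
  have hcard : Nat.card (zpowers y) = 7 := by rw [Nat.card_zpowers, hy]
  -- the Sylow subgroup
  obtain ⟨P, hP⟩ : ∃ P : Sylow 7 S, (P : Subgroup S) = zpowers y := by
    have h1 : IsPGroup 7 (zpowers y) := by
      rw [IsPGroup.iff_card]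
      exact ⟨1, by rw [hcard, pow_one]⟩
    obtain ⟨P, hPle⟩ := h1.exists_le_sylow
    refine ⟨P, (eq_of_le_of_card_ge hPle ?_).symm⟩
    obtain ⟨n, hn⟩ := (IsPGroup.iff_card).1 P.isPGroup'
    rw [hn, hcard]
    have h2 : 7 ^ n ∣ 604800 := by rw [← hG, ← hn]; exact card_subgroup_dvd_card _
    have h3 : n ≤ 1 := by
      by_contra hcon
      push Not at hcon
      have h4 : 7 ^ 2 ∣ 604800 := (pow_dvd_pow 7 hcon).trans h2
      norm_num at h4
    calc 7 ^ n ≤ 7 ^ 1 := Nat.pow_le_pow_right (by norm_num) h3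
      _ = 7 := pow_one 7
  obtain ⟨hC, hN, -⟩ := Cfsg.Agent.J2Type.ThreeF.sylow_seven D.F P
  rw [hP] at hC hN
  have hC' : centralizer ({y} : Set S) = zpowers y := by
    rw [← hC]
    refine le_antisymm ?_ ?_
    · intro x hx
      rw [mem_centralizer_singleton_iff] at hx
      rw [mem_centralizer_iff]
      rintro _ ⟨k, rfl⟩
      exact ((show Commute x y from hx).zpow_right k).symm
    · intro x hx
      rw [mem_centralizer_singleton_iff]
      exact (mem_centralizer_iff.1 hx y (mem_zpowers y)).symm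
  refine nb_of_dz_self (by norm_num) (by norm_num) (by rw [hG]; norm_num) hy (w := 6) (by rw [hC', hcard])
    (by rw [hN]) F (fun C hC => ?_) (by rw [hF8]; norm_num)
  obtain ⟨g, hg, hg2⟩ := hF C hC
  exact ⟨g, hg, mGood_of_coprime hg2⟩

/-- **(J2, 7)** -/
theorem nball_j2_7 {S : Type u} [Group S] [Finite S] (h : Spor.IsoJ2 S) : NBall 7 S := by
  intro m hm2 hm7 E _ _ π hπ hc hperf hm l hl
  have h' := h
  obtain ⟨e⟩ := h'
  have h1 := Cfsg.Agent.H417.CodCentral.card_dvd_mult Cfsg.Agent.S2040.result π.ker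
    ((QuotientGroup.quotientKerEquivOfSurjective π hπ).trans e) hperf hc
  rw [hm] at h1
  obtain rfl : m = 2 := le_antisymm (Nat.le_of_dvd two_pos h1) hm2
  exact nb h E π hπ hc hperf hm l hl

end Cfsg.Agent.H315.RIM.J2Seven
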