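import Cfsg.Agent.H315.RIM.J2Seven

/-!
# S4816: ten classes of odd order of `J2` (helper315)

`1`, two of order 3, four of order 5, one of order 7, two of order 15.
-/

set_option autoImplicit false

namespace Cfsg.Agent.H315.RIM.J2Ten

open Subgroup Cfsg Cfsg.Agent.H665.RIM Cfsg.Agent.H620.RIM
open Cfsg.Agent.J2Type.Base Cfsg.Agent.J2Type.HStr Cfsg.Agent.J2Type.CentU Cfsg.Agent.J2Type.SylowFive

universe u

variable {G : Type*} [Group G] [Finite G] {z u : G}

theorem not_conj_sq_of (hG : Nat.card G = 604800) {P : Sylow 5 G} {x : G} (hx : x ∈ P) (h5 : orderOf x = 5)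
    (h50 : Nat.card (normalizer ((P : Subgroup G) : Set G) ⊓ centralizer ({x} : Set G) : Subgroup G) = 50)
    (h300 : Nat.card (normalizer ((P : Subgroup G) : Set G)) = 300) : ¬ IsConj x (x ^ 2) := by
  intro hcx
  have hO := card_O hG hx
  rw [h50, h300] at hO
  have h6 : Nat.card (O P x) = 6 := by omega
  have h4 : 4 ∣ Nat.card (O P x) := by
    refine four_dvd_card (T := O P x) (fun y hy => ?_) (fun y hy => ⟨(P : Subgroup G).pow_mem hy.1 2, ?_⟩)
    · rw [← orderOf_eq_of_isConj hy.2]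
      exact h5
    · exact hcx.trans (hy.2.pow 2)
  rw [h6] at h4
  norm_num at h4

/-- the centralizer of an element of order 7 -/
theorem card_cent_seven (h : Fus z u) {y : G} (hy : orderOf y = 7) : Nat.card (centralizer ({y} : Set G)) = 7 := by
  have : Fact (Nat.Prime 7) := ⟨by norm_num⟩
  have hG := Cfsg.Agent.J2Type.Order.card_of_fus h
  have hcard : Nat.card (zpowers y) = 7 := by rw [Nat.card_zpowers, hy]
  obtain ⟨P, hP⟩ : ∃ P : Sylow 7 G, (P : Subgroup G) = zpowers y := by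
    have h1 : IsPGroup 7 (zpowers y) := by
      rw [IsPGroup.iff_card]
      exact ⟨1, by rw [hcard, pow_one]⟩
    obtain ⟨P, hPle⟩ := h1.exists_le_sylow
    refine ⟨P, (eq_of_le_of_card_ge hPle ?_).symm⟩
    obtain ⟨n, hn⟩ := (IsPGroup.iff_card).1 P.isPGroup'
    rw [hn, hcard]
    have h2 : 7 ^ n ∣ 604800 := by rw [← hG, ← hn]; exact card_subgroup_dvd_card _
    have h3 : n ≤ 1 := by
      by_contra hcon
      push Not at hcon
      have h4 : 7 ^ 2 ∣ 604800 := (pow_dvd_pow 7 hcon).trans h2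
      norm_num at h4
    calc 7 ^ n ≤ 7 ^ 1 := Nat.pow_le_pow_right (by norm_num) h3
      _ = 7 := pow_one 7
  obtain ⟨hC, -, -⟩ := Cfsg.Agent.J2Type.ThreeF.sylow_seven h P
  rw [hP] at hC
  have hC' : centralizer ({y} : Set G) = zpowers y := by
    rw [← hC]
    refine le_antisymm ?_ ?_
    · intro x hx
      rw [mem_centralizer_singleton_iff] at hx
      rw [mem_centralizer_iff]
      rintro _ ⟨k, rfl⟩
      exact ((show Commute x y from hx).zpow_right k).symm
    · intro x hx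
      rw [mem_centralizer_singleton_iff]
      exact (mem_centralizer_iff.1 hx y (mem_zpowers y)).symm
  rw [hC', hcard]

/-- an element of order 5 commuting with an element of order 3 has centralizer of order 300 -/
theorem card_of_three (h : Fus z u) {w' : G} (hw' : orderOf w' = 5)
    (h300 : Nat.card (centralizer ({w'} : Set G)) = 300) {w c : G} (hw : orderOf w = 5) (hc : orderOf c = 3)
    (hcw : c * w = w * c) : Nat.card (centralizer ({w} : Set G)) = 300 := by
  have : Fact (Nat.Prime 5) := ⟨by norm_num⟩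
  have : Fact (Nat.Prime 3) := ⟨by norm_num⟩
  obtain ⟨a, b, ha, hb, hca, hcb, hcl, -⟩ := Cfsg.Agent.J2Type.ThreeF.main h
  obtain ⟨c', hc'⟩ := exists_prime_orderOf_dvd_card' (G := centralizer ({w'} : Set G)) 3 (by rw [h300]; norm_num)
  have hc'3 : orderOf (c' : G) = 3 := by rw [orderOf_coe]; exact hc'
  have hcw' : (c' : G) * w' = w' * c' := mem_centralizer_singleton_iff.1 c'.2
  -- both elements of order 3 are conjugate to `a`
  have key : ∀ e v : G, orderOf e = 3 → orderOf v = 5 → e * v = v * e → IsConj e a := by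
    intro e v he hv hev
    rcases hcl e he with h1 | h1
    · exact h1
    · exfalso
      have h2 := Cfsg.Agent.J2Type.Cent5.card_centralizer_of_isConj h1
      have h3 : orderOf v ∣ Nat.card (centralizer ({e} : Set G)) := by
        have h4 : v ∈ centralizer ({e} : Set G) := mem_centralizer_singleton_iff.2 hev.symm
        rw [← Subgroup.orderOf_mk v h4]
        exact orderOf_dvd_natCard _
      rw [h2, hcb, hv] at h3
      norm_num at h3
  obtain ⟨g, hg⟩ := isConj_iff.1 ((key c' w' hc'3 hw' hcw').trans (key c w hc hw hcw).symm)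
  -- the Sylow subgroups of `C(c)`
  have hCc : Nat.card (centralizer ({c} : Set G)) = 1080 := by
    rw [Cfsg.Agent.J2Type.Cent5.card_centralizer_of_isConj (key c w hc hw hcw), hca]
  have hsyl : ∀ v : G, orderOf v = 5 → (hv : v ∈ centralizer ({c} : Set G)) →
      ∃ Q : Sylow 5 (centralizer ({c} : Set G)), (Q : Subgroup (centralizer ({c} : Set G))) = zpowers ⟨v, hv⟩ := by
    intro v hv hvc
    have hcard : Nat.card (zpowers (⟨v, hvc⟩ : centralizer ({c} : Set G))) = 5 := by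
      rw [Nat.card_zpowers, Subgroup.orderOf_mk, hv]
    have h1 : IsPGroup 5 (zpowers (⟨v, hvc⟩ : centralizer ({c} : Set G))) := by
      rw [IsPGroup.iff_card]
      exact ⟨1, by rw [hcard, pow_one]⟩
    obtain ⟨P, hPle⟩ := h1.exists_le_sylow
    refine ⟨P, (eq_of_le_of_card_ge hPle ?_).symm⟩
    obtain ⟨n, hn⟩ := (IsPGroup.iff_card).1 P.isPGroup'
    rw [hn, hcard]
    have h2 : 5 ^ n ∣ 1080 := by rw [← hCc, ← hn]; exact card_subgroup_dvd_card _
    have h3 : n ≤ 1 := by
      by_contra hcon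
      push Not at hcon
      have h4 : 5 ^ 2 ∣ 1080 := (pow_dvd_pow 5 hcon).trans h2
      norm_num at h4
    calc 5 ^ n ≤ 5 ^ 1 := Nat.pow_le_pow_right (by norm_num) h3
      _ = 5 := pow_one 5
  have hwc : w ∈ centralizer ({c} : Set G) := mem_centralizer_singleton_iff.2 hcw.symm
  have hw'c : g * w' * g⁻¹ ∈ centralizer ({c} : Set G) := by
    rw [mem_centralizer_singleton_iff, ← hg]
    calc g * w' * g⁻¹ * (g * c' * g⁻¹) = g * (w' * c') * g⁻¹ := by group
      _ = g * c' * g⁻¹ * (g * w' * g⁻¹) := by rw [← hcw']; group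
  have hg5 : orderOf (g * w' * g⁻¹) = 5 := by
    rw [← orderOf_eq_of_isConj (isConj_iff.2 ⟨g, rfl⟩ : IsConj w' (g * w' * g⁻¹))]
    exact hw'
  obtain ⟨Q, hQ⟩ := hsyl w hw hwc
  obtain ⟨Q', hQ'⟩ := hsyl _ hg5 hw'c
  obtain ⟨k, hk⟩ := MulAction.exists_smul_eq (centralizer ({c} : Set G)) Q' Q
  -- `w` is a power of a conjugate of `w'`
  have hmem : (⟨w, hwc⟩ : centralizer ({c} : Set G)) ∈ (k • Q' : Sylow 5 _) := by
    rw [hk]
    show (⟨w, hwc⟩ : centralizer ({c} : Set G)) ∈ (Q : Subgroup (centralizer ({c} : Set G)))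
    rw [hQ]
    exact mem_zpowers _
  have hmem2 : k⁻¹ * (⟨w, hwc⟩ : centralizer ({c} : Set G)) * k ∈ (Q' : Subgroup (centralizer ({c} : Set G))) := by
    have h1 : (⟨w, hwc⟩ : centralizer ({c} : Set G)) ∈ ((k • Q' : Sylow 5 (centralizer ({c} : Set G))) : Subgroup (centralizer ({c} : Set G))) := hmem
    rw [Sylow.coe_subgroup_smul, Subgroup.mem_pointwise_smul_iff_inv_smul_mem] at h1
    have h2 : (MulAut.conj k)⁻¹ • (⟨w, hwc⟩ : centralizer ({c} : Set G)) = k⁻¹ * ⟨w, hwc⟩ * k := by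
      rw [← map_inv, MulAut.smul_def, MulAut.conj_apply, inv_inv]
    rw [← h2]
    exact h1
  rw [hQ'] at hmem2
  obtain ⟨j, hj⟩ := mem_zpowers_iff.1 hmem2
  have hj' : (g * w' * g⁻¹) ^ j = (k : G)⁻¹ * w * k := congrArg Subtype.val hj
  have hcj : IsConj ((g * w' * g⁻¹) ^ j) w := isConj_iff.2 ⟨k, by rw [hj']; group⟩
  have hle : centralizer ({g * w' * g⁻¹} : Set G) ≤ centralizer ({(g * w' * g⁻¹) ^ j} : Set G) := by
    intro x hx
    rw [mem_centralizer_singleton_iff] at hx ⊢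
    exact (show Commute x (g * w' * g⁻¹) from hx).zpow_right j
  have hge : centralizer ({(g * w' * g⁻¹) ^ j} : Set G) ≤ centralizer ({g * w' * g⁻¹} : Set G) := by
    have h1 : orderOf ((g * w' * g⁻¹) ^ j) = 5 := by rw [orderOf_eq_of_isConj hcj]; exact hw
    have h2 : zpowers ((g * w' * g⁻¹) ^ j) = zpowers (g * w' * g⁻¹) := by
      refine eq_of_le_of_card_ge (zpowers_le.2 (zpow_mem_zpowers _ j)) ?_
      rw [Nat.card_zpowers, Nat.card_zpowers, h1, hg5]
    obtain ⟨i, hi⟩ := mem_zpowers_iff.1 (h2 ▸ mem_zpowers (g * w' * g⁻¹) : g * w' * g⁻¹ ∈ zpowers ((g * w' * g⁻¹) ^ j))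
    intro x hx
    rw [mem_centralizer_singleton_iff] at hx ⊢
    rw [← hi]
    exact (show Commute x ((g * w' * g⁻¹) ^ j) from hx).zpow_right i
  rw [← Cfsg.Agent.J2Type.Cent5.card_centralizer_of_isConj hcj, ← le_antisymm hle hge,
    ← Cfsg.Agent.J2Type.Cent5.card_centralizer_of_isConj (isConj_iff.2 ⟨g, rfl⟩ : IsConj w' (g * w' * g⁻¹)), h300]

/-- the elements of order 5 commuting with an involution of the first class have centralizer of order 50 -/
theorem card_cent_fifty (h : Fus z u) {w' : G} (hw' : orderOf w' = 5)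
    (h300 : Nat.card (centralizer ({w'} : Set G)) = 300) {w : G} (hw : orderOf w = 5) (hwz : w * z = z * w) :
    Nat.card (centralizer ({w} : Set G)) = 50 := by
  have : Fact (Nat.Prime 5) := ⟨by norm_num⟩
  have : Fact (Nat.Prime 3) := ⟨by norm_num⟩
  have : Fact (Nat.Prime 7) := ⟨by norm_num⟩
  have hG := Cfsg.Agent.J2Type.Order.card_of_fus h
  have hn4 := Cfsg.Agent.J2Type.FiveFus.not_four_dvd h hw hwz
  have hdvd : Nat.card (centralizer ({w} : Set G)) ∣ 604800 := by rw [← hG]; exact card_subgroup_dvd_card _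
  have h25 : 25 ∣ Nat.card (centralizer ({w} : Set G)) := by
    obtain ⟨P⟩ : Nonempty (Sylow 5 G) := inferInstance
    obtain ⟨a, ha⟩ := exists_conj_mem_sylow P (y := w) (n := 1) (by rw [hw]; norm_num)
    rw [Cfsg.Agent.J2Type.Cent5.card_centralizer_of_isConj (isConj_iff.2 ⟨a, rfl⟩ : IsConj w (a * w * a⁻¹)),
      ← card_sylow_five hG P]
    exact card_dvd_of_le (sylow_le_centralizer hG P ha)
  have h2 : 2 ∣ Nat.card (centralizer ({w} : Set G)) := by
    have h4 : z ∈ centralizer ({w} : Set G) := mem_centralizer_singleton_iff.2 hwz.symm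
    rw [← h.hz, ← Subgroup.orderOf_mk z h4]
    exact orderOf_dvd_natCard _
  have h3 : ¬ 3 ∣ Nat.card (centralizer ({w} : Set G)) := by
    intro h3
    obtain ⟨c, hc⟩ := exists_prime_orderOf_dvd_card' (G := centralizer ({w} : Set G)) 3 h3
    have hc3 : orderOf (c : G) = 3 := by rw [orderOf_coe]; exact hc
    have h5 := card_of_three h hw' h300 hw hc3 (mem_centralizer_singleton_iff.1 c.2)
    rw [h5] at hn4
    norm_num at hn4
  have h7 : ¬ 7 ∣ Nat.card (centralizer ({w} : Set G)) := by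
    intro h7
    obtain ⟨y, hy⟩ := exists_prime_orderOf_dvd_card' (G := centralizer ({w} : Set G)) 7 h7
    have hy7 : orderOf (y : G) = 7 := by rw [orderOf_coe]; exact hy
    have h5 := card_cent_seven h hy7
    have h6 : w ∈ centralizer ({(y : G)} : Set G) :=
      mem_centralizer_singleton_iff.2 (mem_centralizer_singleton_iff.1 y.2).symm
    have h8 : orderOf w ∣ Nat.card (centralizer ({(y : G)} : Set G)) := by
      rw [← Subgroup.orderOf_mk w h6]
      exact orderOf_dvd_natCard _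
    rw [h5, hw] at h8
    norm_num at h8
  obtain ⟨k, hk⟩ : 50 ∣ Nat.card (centralizer ({w} : Set G)) := by
    rw [show (50 : ℕ) = 2 * 25 by norm_num]
    exact Nat.Coprime.mul_dvd_of_dvd_of_dvd (by norm_num) h2 h25
  rw [hk] at hdvd hn4 h3 h7 ⊢
  have hk1 : k ∣ 12096 := by
    refine Nat.dvd_of_mul_dvd_mul_left (by norm_num : 0 < 50) ?_
    exact hdvd
  have hk2 : ¬ 2 ∣ k := fun ⟨m, hm⟩ => hn4 ⟨25 * m, by omega⟩
  have hk3 : ¬ 3 ∣ k := fun ⟨m, hm⟩ => h3 ⟨50 * m, by omega⟩
  have hk7 : ¬ 7 ∣ k := fun ⟨m, hm⟩ => h7 ⟨50 * m, by omega⟩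
  have hc : Nat.Coprime k 12096 := by
    rw [show (12096 : ℕ) = 2 ^ 6 * 3 ^ 3 * 7 by norm_num]
    exact Nat.Coprime.mul_right (Nat.Coprime.mul_right
      (Nat.Coprime.pow_right _ ((Nat.Prime.coprime_iff_not_dvd Nat.prime_two).2 hk2).symm)
      (Nat.Coprime.pow_right _ ((Nat.Prime.coprime_iff_not_dvd Nat.prime_three).2 hk3).symm))
      ((Nat.Prime.coprime_iff_not_dvd (by norm_num : Nat.Prime 7)).2 hk7).symm
  have hk4 : k = 1 := Nat.Coprime.eq_one_of_dvd hc hk1
  rw [hk4]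

/-- ten classes of odd order -/
theorem exists_ten (h : Fus z u) : ∃ F : Finset (ConjClasses G), F.card = 10 ∧
    ∀ C ∈ F, ∃ g : G, ConjClasses.mk g = C ∧ (orderOf g).Coprime 2 := by
  have : Fact (Nat.Prime 5) := ⟨by norm_num⟩
  have : Fact (Nat.Prime 3) := ⟨by norm_num⟩
  have : Fact (Nat.Prime 7) := ⟨by norm_num⟩
  have hG := Cfsg.Agent.J2Type.Order.card_of_fus h
  obtain ⟨f, U, V, H0, F⟩ := Cfsg.Agent.J2Type.CentU.main h
  have h60 : Nat.card H0 = 60 := by
    have h1 := Cfsg.Agent.J2Type.Order.card_centralizer_u h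
    rw [F.str.card] at h1
    omega
  obtain ⟨w', hw'⟩ := exists_prime_orderOf_dvd_card' (G := H0) 5 (by rw [h60]; norm_num)
  obtain ⟨w, hw⟩ := exists_prime_orderOf_dvd_card' (G := centralizer ({z} : Set G)) 5
    (by rw [h.cardC]; norm_num)
  have hw'5 : orderOf (w' : G) = 5 := by rw [orderOf_coe]; exact hw'
  have hw5 : orderOf (w : G) = 5 := by rw [orderOf_coe]; exact hw
  have hwz : (w : G) * z = z * w := mem_centralizer_singleton_iff.mp w.2
  have hgood := Cfsg.Agent.J2Type.Cent5.good_of_mem h F h60 w'.2 hw'5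
  have hn4 := Cfsg.Agent.J2Type.FiveFus.not_four_dvd h hw5 hwz
  have hsq := Cfsg.Agent.H315.RIM.J2Seven.not_conj_sq hG hgood fun P => (Cfsg.Agent.J2Type.FiveFus.sylow_five h P).2.2.1
  have hc300 : Nat.card (centralizer ({(w' : G)} : Set G)) = 300 := by
    obtain ⟨P⟩ : Nonempty (Sylow 5 G) := inferInstance
    obtain ⟨a, ha⟩ := exists_conj_mem_sylow P (y := (w' : G)) (n := 1) (by rw [hw'5]; norm_num)
    have h1 := (hgood.conj a).card_centralizer hG ha
    have h2 := Cfsg.Agent.J2Type.Cent5.card_centralizer_of_isConj (isConj_iff.2 ⟨a, rfl⟩ : IsConj (w' : G) (a * w' * a⁻¹))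
    rw [h2]
    exact h1
  have hc50 := card_cent_fifty h hw'5 hc300 hw5 hwz
  have hsq2 : ¬ IsConj (w : G) ((w : G) ^ 2) := by
    intro hcon
    obtain ⟨P⟩ : Nonempty (Sylow 5 G) := inferInstance
    obtain ⟨a, ha⟩ := exists_conj_mem_sylow P (y := (w : G)) (n := 1) (by rw [hw5]; norm_num)
    have hx : IsConj (w : G) (a * w * a⁻¹) := isConj_iff.2 ⟨a, rfl⟩
    have hcx : IsConj (a * (w : G) * a⁻¹) ((a * w * a⁻¹) ^ 2) := hx.symm.trans (hcon.trans (hx.pow 2))
    have hx5 : orderOf (a * (w : G) * a⁻¹) = 5 := by rw [← orderOf_eq_of_isConj hx]; exact hw5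
    have hx50 : Nat.card (centralizer ({a * (w : G) * a⁻¹} : Set G)) = 50 := by
      rw [← Cfsg.Agent.J2Type.Cent5.card_centralizer_of_isConj hx]; exact hc50
    refine not_conj_sq_of hG ha hx5 ?_ (Cfsg.Agent.J2Type.FiveFus.sylow_five h P).2.2.1 hcx
    have hle := sylow_le_centralizer hG P ha
    have h2 : (((P : Subgroup G).subgroupOf (centralizer ({a * (w : G) * a⁻¹} : Set G)))).index = 2 := by
      have h3 := ((P : Subgroup G).subgroupOf (centralizer ({a * (w : G) * a⁻¹} : Set G))).card_mul_index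
      rw [Nat.card_congr (subgroupOfEquivOfLe hle).toEquiv, card_sylow_five hG P, hx50] at h3
      omega
    have h4 := normal_of_index_eq_two h2
    have h5 : centralizer ({a * (w : G) * a⁻¹} : Set G) ≤ normalizer ((P : Subgroup G) : Set G) :=
      (normal_subgroupOf_iff_le_normalizer hle).1 h4
    rw [inf_eq_right.2 h5, hx50]
  obtain ⟨a, b, ha, hb, hca, hcb, -, -⟩ := Cfsg.Agent.J2Type.ThreeF.main h
  have hab : ¬ IsConj a b := fun hcon => by
    have h1 := Cfsg.Agent.J2Type.Cent5.card_centralizer_of_isConj hcon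
    rw [hca, hcb] at h1
    norm_num at h1
  obtain ⟨y, hy⟩ := exists_prime_orderOf_dvd_card' (G := G) 7 (by rw [hG]; norm_num)
  obtain ⟨c, hc⟩ := exists_prime_orderOf_dvd_card' (G := centralizer ({(w' : G)} : Set G)) 3
    (by rw [hc300]; norm_num)
  have hc3 : orderOf (c : G) = 3 := by rw [orderOf_coe]; exact hc
  have hcw : Commute (c : G) w' := mem_centralizer_singleton_iff.1 c.2
  have hcw2 : Commute (c : G) ((w' : G) ^ 2) := hcw.pow_right 2
  have hw2 : orderOf ((w' : G) ^ 2) = 5 := by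
    rw [Nat.Coprime.orderOf_pow (by rw [hw'5]; norm_num), hw'5]
  have hw22 : orderOf ((w : G) ^ 2) = 5 := by
    rw [Nat.Coprime.orderOf_pow (by rw [hw5]; norm_num), hw5]
  have h15 : orderOf ((c : G) * w') = 15 := by
    rw [hcw.orderOf_mul_eq_mul_orderOf_of_coprime (by rw [hc3, hw'5]; norm_num), hc3, hw'5]
  have h152 : orderOf ((c : G) * (w' : G) ^ 2) = 15 := by
    rw [hcw2.orderOf_mul_eq_mul_orderOf_of_coprime (by rw [hc3, hw2]; norm_num), hc3, hw2]
  have hne : ∀ {g k : G}, orderOf g ≠ orderOf k → ¬ IsConj g k := fun hgk hcon =>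
    hgk (orderOf_eq_of_isConj hcon)
  have h53 : ¬ IsConj (w' : G) w := fun hcon => by
    have h1 := Cfsg.Agent.J2Type.Cent5.card_centralizer_of_isConj hcon
    rw [← h1, hc300] at hn4
    norm_num at hn4
  have h54 : ¬ IsConj ((w' : G) ^ 2) w := fun hcon => by
    have h1 := Cfsg.Agent.J2Type.Cent5.card_centralizer_of_isConj hcon
    rw [← h1, centralizer_sq hw'5, hc300] at hn4
    norm_num at hn4
  have h55 : ¬ IsConj (w' : G) ((w : G) ^ 2) := fun hcon => by
    have h1 := Cfsg.Agent.J2Type.Cent5.card_centralizer_of_isConj hcon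
    rw [centralizer_sq hw5] at h1
    rw [← h1, hc300] at hn4
    norm_num at hn4
  have h56 : ¬ IsConj ((w' : G) ^ 2) ((w : G) ^ 2) := fun hcon => by
    have h1 := Cfsg.Agent.J2Type.Cent5.card_centralizer_of_isConj hcon
    rw [centralizer_sq hw5, centralizer_sq hw'5] at h1
    rw [← h1, hc300] at hn4
    norm_num at hn4
  have h1515 : ¬ IsConj ((c : G) * w') ((c : G) * (w' : G) ^ 2) := fun hcon => by
    have hc0 : (c : G) ^ 3 = 1 := by rw [← hc3]; exact pow_orderOf_eq_one _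
    have hw0 : (w' : G) ^ 5 = 1 := by rw [← hw'5]; exact pow_orderOf_eq_one _
    have h1 := hcon.pow 6
    have h2 : ((c : G) * w') ^ 6 = w' := by
      rw [hcw.mul_pow, show (6 : ℕ) = 3 * 2 by norm_num, pow_mul, hc0, one_pow, one_mul,
        show (3 * 2 : ℕ) = 5 + 1 by norm_num, pow_succ, hw0, one_mul]
    have h3 : ((c : G) * (w' : G) ^ 2) ^ 6 = (w' : G) ^ 2 := by
      rw [hcw2.mul_pow, show (6 : ℕ) = 3 * 2 by norm_num, pow_mul, hc0, one_pow, one_mul, ← pow_mul,
        show (2 * (3 * 2) : ℕ) = 5 * 2 + 2 by norm_num, pow_add, pow_mul, hw0, one_pow, one_mul]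
    rw [h2, h3] at h1
    exact hsq h1
  obtain ⟨F', hF', hF⟩ := exists_finset (fun g : G => (orderOf g).Coprime 2)
    [1, a, b, (w' : G), (w' : G) ^ 2, (w : G), (w : G) ^ 2, y, (c : G) * w', (c : G) * (w' : G) ^ 2] (by
      simp only [List.pairwise_cons, List.mem_cons, List.not_mem_nil, or_false, forall_eq_or_imp, forall_eq,
        IsEmpty.forall_iff, implies_true, List.Pairwise.nil, and_true]
      refine ⟨⟨?_, ?_, ?_, ?_, ?_, ?_, ?_, ?_, ?_⟩, ⟨hab, ?_, ?_, ?_, ?_, ?_, ?_, ?_⟩, ⟨?_, ?_, ?_, ?_, ?_, ?_, ?_⟩,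
        ⟨hsq, h53, h55, ?_, ?_, ?_⟩, ⟨h54, h56, ?_, ?_, ?_⟩, ⟨hsq2, ?_, ?_, ?_⟩, ⟨?_, ?_, ?_⟩, ⟨?_, ?_⟩, h1515⟩ <;>
        refine hne ?_ <;>
        simp only [orderOf_one, ha, hb, hw'5, hw2, hw5, hw22, hy, h15, h152] <;> norm_num) (by
      simp only [List.mem_cons, List.not_mem_nil, or_false, forall_eq_or_imp, forall_eq, orderOf_one, ha, hb,
        hw'5, hw2, hw5, hw22, hy, h15, h152]
      norm_num)
  exact ⟨F', hF', hF⟩

end Cfsg.Agent.H315.RIM.J2Ten
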